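import Mathlib
import Cfsg.Prelude.Def_Classical

/-!
The orthogonal space of plus type in dimension eight over the field with two elements: coordinates,
the form, reflections and Siegel maps as functions, and the finite facts about them.
-/

set_option autoImplicit false
set_option maxRecDepth 100000
set_option synthInstance.maxSize 1000
set_option maxHeartbeats 4000000

namespace CfsgLib.ConwayType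

/-- Eight coordinates, in the order of `Cfsg.quadFormPlus 4`. -/
abbrev Ix : Type := Fin 4 ⊕ Fin 4

/-- The natural module. -/
abbrev V : Type := Ix → ZMod 2

/-- The vector with coordinates `x₁ x₂ x₃ x₄ y₁ y₂ y₃ y₄`. -/
def vec (a b c d g h i j : ZMod 2) : V := Sum.elim ![a, b, c, d] ![g, h, i, j]

theorem eq_vec (v : V) : v = vec (v (.inl 0)) (v (.inl 1)) (v (.inl 2)) (v (.inl 3))
    (v (.inr 0)) (v (.inr 1)) (v (.inr 2)) (v (.inr 3)) := by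
  funext k
  rcases k with k | k <;> fin_cases k <;> rfl

theorem forall_vec {P : V → Prop} : (∀ v, P v) ↔ ∀ a b c d g h i j : ZMod 2, P (vec a b c d g h i j) :=
  ⟨fun H _ _ _ _ _ _ _ _ => H _, fun H v => by rw [eq_vec v]; exact H _ _ _ _ _ _ _ _⟩

/-- The quadratic form. -/
def q (v : V) : ZMod 2 :=
  v (.inl 0) * v (.inr 0) + v (.inl 1) * v (.inr 1) + v (.inl 2) * v (.inr 2) + v (.inl 3) * v (.inr 3)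

/-- The polar form. -/
def bl (u v : V) : ZMod 2 :=
  u (.inl 0) * v (.inr 0) + u (.inr 0) * v (.inl 0) + (u (.inl 1) * v (.inr 1) + u (.inr 1) * v (.inl 1)) +
    (u (.inl 2) * v (.inr 2) + u (.inr 2) * v (.inl 2)) + (u (.inl 3) * v (.inr 3) + u (.inr 3) * v (.inl 3))

/-- A reflection as a function. -/
def rf (a x : V) : V := fun i => x i + bl x a * a i

/-- A Siegel map as a function. -/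
def sgf (v w x : V) : V := fun i => x i + bl x v * w i + (bl x w + q w * bl x v) * v i

/-- A product of two reflections as a function. -/
def pf (p : V × V) (x : V) : V := rf p.1 (rf p.2 x)

/-- First vector of the first hyperbolic pair. -/
def eV : V := vec 1 0 0 0 0 0 0 0
/-- Second vector of the first hyperbolic pair. -/
def fV : V := vec 0 0 0 0 1 0 0 0
/-- First vector of the second hyperbolic pair. -/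
def e2V : V := vec 0 1 0 0 0 0 0 0
/-- Second vector of the second hyperbolic pair. -/
def f2V : V := vec 0 0 0 0 0 1 0 0
/-- First vector of the third hyperbolic pair. -/
def e3V : V := vec 0 0 1 0 0 0 0 0
/-- Second vector of the third hyperbolic pair. -/
def f3V : V := vec 0 0 0 0 0 0 1 0
/-- First vector of the fourth hyperbolic pair. -/
def e4V : V := vec 0 0 0 1 0 0 0 0
/-- Second vector of the fourth hyperbolic pair. -/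
def f4V : V := vec 0 0 0 0 0 0 0 1
/-- A nonsingular vector. -/
def cV : V := vec 0 1 0 0 0 1 0 0
/-- A nonsingular vector not orthogonal to `cV`. -/
def uV : V := vec 0 1 1 0 0 0 1 0

/-- The representative modulo `eV` with vanishing first coordinate. -/
def md (v : V) : V :=
  vec 0 (v (.inl 1)) (v (.inl 2)) (v (.inl 3)) (v (.inr 0)) (v (.inr 1)) (v (.inr 2)) (v (.inr 3))

/-- Representatives of `eV`-orthogonal vectors modulo `eV`. -/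
def Mid (v : V) : Prop := v (.inl 0) = 0 ∧ v (.inr 0) = 0

instance : DecidablePred Mid := fun v => by unfold Mid; infer_instance

theorem forall_mid {P : V → Prop} :
    (∀ v, Mid v → P v) ↔ ∀ b c d h i j : ZMod 2, P (vec 0 b c d 0 h i j) := by
  refine ⟨fun H _ _ _ _ _ _ => H _ ⟨rfl, rfl⟩, fun H v hv => ?_⟩
  rw [eq_vec v, hv.1, hv.2]
  exact H _ _ _ _ _ _

/-- Pairs of nonsingular vectors whose reflection products move `eV` to every singular vector. -/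
def transPairs : List (V × V) :=
  [(vec 1 0 0 0 1 0 0 0, vec 1 0 0 0 1 0 0 0),
   (vec 1 0 0 0 1 0 0 0, vec 0 1 0 0 0 1 0 0),
   (vec 1 0 0 0 1 0 0 0, vec 1 1 0 0 1 0 0 0),
   (vec 1 0 0 0 1 0 0 0, vec 1 0 1 0 1 0 0 0),
   (vec 1 0 0 0 1 0 0 0, vec 1 0 0 1 1 0 0 0),
   (vec 1 0 0 0 1 0 0 0, vec 1 0 0 0 1 1 0 0),
   (vec 1 0 0 0 1 0 0 0, vec 0 1 0 0 1 1 0 0),
   (vec 1 0 0 0 1 0 0 0, vec 1 0 0 0 1 0 1 0),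
   (vec 1 0 0 0 1 0 0 0, vec 0 0 1 0 1 0 1 0),
   (vec 1 0 0 0 1 0 0 0, vec 1 0 0 0 1 0 0 1),
   (vec 1 0 0 0 1 0 0 0, vec 0 0 0 1 1 0 0 1),
   (vec 1 1 0 0 1 0 0 0, vec 0 1 0 0 0 1 0 0),
   (vec 1 0 1 0 1 0 0 0, vec 0 1 0 0 0 1 0 0),
   (vec 1 0 0 1 1 0 0 0, vec 0 1 0 0 0 1 0 0),
   (vec 0 1 0 0 0 1 0 0, vec 1 0 0 0 1 0 1 0),
   (vec 0 1 0 0 0 1 0 0, vec 1 0 0 0 1 0 0 1),
   (vec 1 0 0 0 1 1 0 0, vec 0 0 1 0 0 0 1 0),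
   (vec 1 0 0 0 1 0 0 0, vec 1 1 1 0 1 0 0 0),
   (vec 1 0 0 0 1 0 0 0, vec 1 1 0 1 1 0 0 0),
   (vec 1 0 0 0 1 0 0 0, vec 1 0 1 1 1 0 0 0),
   (vec 1 0 0 0 1 0 0 0, vec 1 0 1 0 1 1 0 0),
   (vec 1 0 0 0 1 0 0 0, vec 0 1 1 0 1 1 0 0),
   (vec 1 0 0 0 1 0 0 0, vec 1 0 0 1 1 1 0 0),
   (vec 1 0 0 0 1 0 0 0, vec 0 1 0 1 1 1 0 0),
   (vec 1 0 0 0 1 0 0 0, vec 1 1 0 0 1 0 1 0),
   (vec 1 0 0 0 1 0 0 0, vec 0 1 1 0 1 0 1 0),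
   (vec 1 0 0 0 1 0 0 0, vec 1 0 0 1 1 0 1 0),
   (vec 1 0 0 0 1 0 0 0, vec 0 0 1 1 1 0 1 0),
   (vec 1 0 0 0 1 0 0 0, vec 1 0 0 0 1 1 1 0),
   (vec 1 0 0 0 1 0 0 0, vec 0 1 0 0 1 1 1 0),
   (vec 1 0 0 0 1 0 0 0, vec 0 0 1 0 1 1 1 0),
   (vec 1 0 0 0 1 0 0 0, vec 1 1 0 0 1 0 0 1),
   (vec 1 0 0 0 1 0 0 0, vec 1 0 1 0 1 0 0 1),
   (vec 1 0 0 0 1 0 0 0, vec 0 1 0 1 1 0 0 1),
   (vec 1 0 0 0 1 0 0 0, vec 0 0 1 1 1 0 0 1),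
   (vec 1 0 0 0 1 0 0 0, vec 1 0 0 0 1 1 0 1),
   (vec 1 0 0 0 1 0 0 0, vec 0 1 0 0 1 1 0 1),
   (vec 1 0 0 0 1 0 0 0, vec 0 0 0 1 1 1 0 1),
   (vec 1 0 0 0 1 0 0 0, vec 1 0 0 0 1 0 1 1),
   (vec 1 0 0 0 1 0 0 0, vec 0 0 1 0 1 0 1 1),
   (vec 1 0 0 0 1 0 0 0, vec 0 0 0 1 1 0 1 1),
   (vec 1 1 0 0 1 0 0 0, vec 0 1 0 0 1 1 0 0),
   (vec 1 0 1 0 1 0 0 0, vec 0 0 1 0 1 0 1 0),
   (vec 1 1 1 0 1 0 0 0, vec 0 1 0 0 0 1 0 0),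
   (vec 1 0 0 1 1 0 0 0, vec 0 0 0 1 1 0 0 1),
   (vec 1 1 0 1 1 0 0 0, vec 0 1 0 0 0 1 0 0),
   (vec 1 0 1 1 1 0 0 0, vec 0 1 0 0 0 1 0 0),
   (vec 0 1 0 0 0 1 0 0, vec 1 1 0 0 1 0 1 0),
   (vec 0 1 0 0 0 1 0 0, vec 1 0 0 1 1 0 1 0),
   (vec 0 1 0 0 0 1 0 0, vec 1 0 0 0 1 1 1 0),
   (vec 0 1 0 0 0 1 0 0, vec 1 1 0 0 1 0 0 1),
   (vec 0 1 0 0 0 1 0 0, vec 1 0 1 0 1 0 0 1),
   (vec 0 1 0 0 0 1 0 0, vec 1 0 0 0 1 1 0 1),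
   (vec 0 1 0 0 0 1 0 0, vec 1 0 0 0 1 0 1 1),
   (vec 1 1 0 0 0 1 0 0, vec 0 0 1 0 1 0 1 0),
   (vec 1 1 0 0 0 1 0 0, vec 0 0 0 1 1 0 0 1),
   (vec 1 0 0 0 1 1 0 0, vec 0 1 0 0 1 1 0 0),
   (vec 0 1 0 0 1 1 0 0, vec 0 0 1 0 1 0 1 0),
   (vec 0 1 0 0 1 1 0 0, vec 0 0 0 1 1 0 0 1),
   (vec 1 0 1 0 1 1 0 0, vec 0 0 1 0 0 0 1 0),
   (vec 1 0 0 1 1 1 0 0, vec 0 0 1 0 0 0 1 0),
   (vec 1 0 1 0 0 0 1 0, vec 0 0 0 1 1 0 0 1),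
   (vec 1 0 0 0 1 0 1 0, vec 0 0 1 0 1 0 1 0),
   (vec 0 0 1 0 1 0 1 0, vec 0 0 0 1 1 0 0 1),
   (vec 1 0 0 0 1 0 0 1, vec 0 0 0 1 1 0 0 1),
   (vec 1 0 0 0 1 0 0 0, vec 1 1 1 1 1 0 0 0),
   (vec 1 0 0 0 1 0 0 0, vec 1 0 1 1 1 1 0 0),
   (vec 1 0 0 0 1 0 0 0, vec 0 1 1 1 1 1 0 0),
   (vec 1 0 0 0 1 0 0 0, vec 1 1 0 1 1 0 1 0),
   (vec 1 0 0 0 1 0 0 0, vec 0 1 1 1 1 0 1 0),
   (vec 1 0 0 0 1 0 0 0, vec 1 0 0 1 1 1 1 0),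
   (vec 1 0 0 0 1 0 0 0, vec 0 1 0 1 1 1 1 0),
   (vec 1 0 0 0 1 0 0 0, vec 0 0 1 1 1 1 1 0),
   (vec 1 0 0 0 1 0 0 0, vec 1 1 1 0 1 0 0 1),
   (vec 1 0 0 0 1 0 0 0, vec 0 1 1 1 1 0 0 1),
   (vec 1 0 0 0 1 0 0 0, vec 1 0 1 0 1 1 0 1),
   (vec 1 0 0 0 1 0 0 0, vec 0 1 1 0 1 1 0 1),
   (vec 1 0 0 0 1 0 0 0, vec 0 0 1 1 1 1 0 1),
   (vec 1 0 0 0 1 0 0 0, vec 1 1 0 0 1 0 1 1),
   (vec 1 0 0 0 1 0 0 0, vec 0 1 1 0 1 0 1 1),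
   (vec 1 0 0 0 1 0 0 0, vec 0 1 0 1 1 0 1 1),
   (vec 1 0 0 0 1 0 0 0, vec 1 0 0 0 1 1 1 1),
   (vec 1 0 0 0 1 0 0 0, vec 0 1 0 0 1 1 1 1),
   (vec 1 0 0 0 1 0 0 0, vec 0 0 1 0 1 1 1 1),
   (vec 1 0 0 0 1 0 0 0, vec 0 0 0 1 1 1 1 1),
   (vec 1 1 0 0 1 0 0 0, vec 0 1 1 0 1 1 0 0),
   (vec 1 1 0 0 1 0 0 0, vec 0 1 0 1 1 1 0 0),
   (vec 1 1 0 0 1 0 0 0, vec 0 1 0 0 1 1 1 0),
   (vec 1 1 0 0 1 0 0 0, vec 0 0 1 0 1 1 1 0),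
   (vec 1 1 0 0 1 0 0 0, vec 0 1 0 0 1 1 0 1),
   (vec 1 1 0 0 1 0 0 0, vec 0 0 0 1 1 1 0 1),
   (vec 1 0 1 0 1 0 0 0, vec 0 1 1 0 1 0 1 0),
   (vec 1 0 1 0 1 0 0 0, vec 0 0 1 1 1 0 1 0),
   (vec 1 0 1 0 1 0 0 0, vec 0 0 1 0 1 0 1 1),
   (vec 1 0 1 0 1 0 0 0, vec 0 0 0 1 1 0 1 1),
   (vec 1 0 0 1 1 0 0 0, vec 0 1 0 1 1 0 0 1),
   (vec 1 0 0 1 1 0 0 0, vec 0 0 1 1 1 0 0 1),
   (vec 1 1 1 1 1 0 0 0, vec 0 1 0 0 0 1 0 0),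
   (vec 0 1 0 0 0 1 0 0, vec 1 1 0 1 1 0 1 0),
   (vec 0 1 0 0 0 1 0 0, vec 1 0 0 1 1 1 1 0),
   (vec 0 1 0 0 0 1 0 0, vec 1 1 1 0 1 0 0 1),
   (vec 0 1 0 0 0 1 0 0, vec 1 0 1 0 1 1 0 1),
   (vec 0 1 0 0 0 1 0 0, vec 1 1 0 0 1 0 1 1),
   (vec 0 1 0 0 0 1 0 0, vec 1 0 0 0 1 1 1 1),
   (vec 1 1 0 0 0 1 0 0, vec 0 0 1 1 1 0 1 0),
   (vec 1 1 0 0 0 1 0 0, vec 0 0 1 1 1 0 0 1),
   (vec 1 1 0 0 0 1 0 0, vec 0 0 1 0 1 0 1 1),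
   (vec 1 1 0 0 0 1 0 0, vec 0 0 0 1 1 0 1 1),
   (vec 0 1 1 0 0 1 0 0, vec 0 0 0 1 1 0 1 1),
   (vec 1 0 0 0 1 1 0 0, vec 0 1 1 0 1 1 0 0),
   (vec 1 0 0 0 1 1 0 0, vec 0 1 0 1 1 1 0 0),
   (vec 0 1 0 0 1 1 0 0, vec 0 0 1 1 1 0 1 0),
   (vec 0 1 0 0 1 1 0 0, vec 0 0 1 1 1 0 0 1),
   (vec 0 1 0 0 1 1 0 0, vec 0 0 1 0 1 0 1 1),
   (vec 0 1 0 0 1 1 0 0, vec 0 0 0 1 1 0 1 1),
   (vec 1 0 1 1 1 1 0 0, vec 0 0 1 0 0 0 1 0),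
   (vec 1 0 1 0 0 0 1 0, vec 0 1 0 1 1 0 0 1),
   (vec 1 0 1 0 0 0 1 0, vec 0 0 0 1 1 1 0 1),
   (vec 1 0 0 0 1 0 1 0, vec 0 0 1 1 1 0 1 0),
   (vec 0 0 1 0 1 0 1 0, vec 0 1 0 1 1 0 0 1),
   (vec 0 0 1 0 1 0 1 0, vec 0 0 0 1 1 1 0 1),
   (vec 1 1 0 0 1 0 0 0, vec 0 1 1 1 1 1 0 0),
   (vec 1 1 0 0 1 0 0 0, vec 0 1 0 1 1 1 1 0),
   (vec 1 1 0 0 1 0 0 0, vec 0 0 1 1 1 1 1 0),
   (vec 1 1 0 0 1 0 0 0, vec 0 1 1 0 1 1 0 1),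
   (vec 1 1 0 0 1 0 0 0, vec 0 0 1 1 1 1 0 1),
   (vec 1 1 0 0 1 0 0 0, vec 0 1 0 0 1 1 1 1),
   (vec 1 1 0 0 1 0 0 0, vec 0 0 1 0 1 1 1 1),
   (vec 1 1 0 0 1 0 0 0, vec 0 0 0 1 1 1 1 1),
   (vec 1 0 1 0 1 0 0 0, vec 0 1 1 1 1 0 1 0),
   (vec 1 0 1 0 1 0 0 0, vec 0 1 1 0 1 0 1 1),
   (vec 1 0 1 0 1 0 0 0, vec 0 1 0 1 1 0 1 1),
   (vec 1 0 1 0 1 0 0 0, vec 0 0 0 1 1 1 1 1),
   (vec 1 0 0 1 1 0 0 0, vec 0 1 1 1 1 0 0 1),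
   (vec 1 0 0 0 1 1 0 0, vec 0 1 1 1 1 1 0 0)]

/-- Pairs of nonsingular vectors orthogonal to `eV`. -/
def stabPairs : List (V × V) :=
  [(vec 1 0 0 0 1 0 0 0, vec 1 0 0 0 1 0 0 0),
   (vec 0 1 0 0 0 1 0 0, vec 0 0 1 0 0 0 1 0),
   (vec 0 1 0 0 0 1 0 0, vec 0 1 1 0 0 1 0 0),
   (vec 0 1 0 0 0 1 0 0, vec 0 1 0 1 0 1 0 0),
   (vec 0 1 0 0 0 1 0 0, vec 0 1 0 0 0 1 1 0),
   (vec 0 1 0 0 0 1 0 0, vec 0 0 1 0 0 1 1 0),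
   (vec 0 1 0 0 0 1 0 0, vec 0 1 0 0 0 1 0 1),
   (vec 0 1 0 0 0 1 0 0, vec 0 0 0 1 0 1 0 1),
   (vec 0 1 1 0 0 1 0 0, vec 0 0 1 0 0 0 1 0),
   (vec 0 1 0 1 0 1 0 0, vec 0 0 1 0 0 0 1 0),
   (vec 0 0 1 0 0 0 1 0, vec 0 1 0 0 0 1 0 1),
   (vec 0 1 0 0 0 1 1 0, vec 0 0 0 1 0 0 0 1),
   (vec 0 1 0 0 0 1 0 0, vec 0 1 1 1 0 1 0 0),
   (vec 0 1 0 0 0 1 0 0, vec 0 1 0 1 0 1 1 0),
   (vec 0 1 0 0 0 1 0 0, vec 0 0 1 1 0 1 1 0),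
   (vec 0 1 0 0 0 1 0 0, vec 0 1 1 0 0 1 0 1),
   (vec 0 1 0 0 0 1 0 0, vec 0 0 1 1 0 1 0 1),
   (vec 0 1 0 0 0 1 0 0, vec 0 1 0 0 0 1 1 1),
   (vec 0 1 0 0 0 1 0 0, vec 0 0 1 0 0 1 1 1),
   (vec 0 1 0 0 0 1 0 0, vec 0 0 0 1 0 1 1 1),
   (vec 0 1 1 0 0 1 0 0, vec 0 0 1 0 0 1 1 0),
   (vec 0 1 0 1 0 1 0 0, vec 0 0 0 1 0 1 0 1),
   (vec 0 1 1 1 0 1 0 0, vec 0 0 1 0 0 0 1 0),
   (vec 0 0 1 0 0 0 1 0, vec 0 1 1 0 0 1 0 1),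
   (vec 0 0 1 0 0 0 1 0, vec 0 1 0 0 0 1 1 1),
   (vec 0 1 1 0 0 0 1 0, vec 0 0 0 1 0 1 0 1),
   (vec 0 1 0 0 0 1 1 0, vec 0 0 1 0 0 1 1 0),
   (vec 0 0 1 0 0 1 1 0, vec 0 0 0 1 0 1 0 1),
   (vec 0 1 0 1 0 1 1 0, vec 0 0 0 1 0 0 0 1),
   (vec 0 1 0 0 0 1 0 1, vec 0 0 0 1 0 1 0 1),
   (vec 0 1 1 0 0 1 0 0, vec 0 0 1 1 0 1 1 0),
   (vec 0 1 1 0 0 1 0 0, vec 0 0 1 0 0 1 1 1),
   (vec 0 1 1 0 0 1 0 0, vec 0 0 0 1 0 1 1 1),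
   (vec 0 1 0 1 0 1 0 0, vec 0 0 1 1 0 1 0 1),
   (vec 0 1 0 0 0 1 1 0, vec 0 0 1 1 0 1 1 0),
   (vec 0 1 1 0 0 0 1 0, vec 0 1 1 1 0 0 1 0),
   (vec 0 1 1 0 0 0 1 0, vec 0 0 1 1 0 1 0 1),
   (vec 0 1 1 0 0 0 1 0, vec 0 1 1 0 0 0 1 1),
   (vec 0 1 1 0 0 0 1 0, vec 0 0 0 1 0 1 1 1),
   (vec 0 1 1 1 0 0 1 0, vec 0 0 0 1 0 1 0 1),
   (vec 0 1 0 1 0 0 0 1, vec 0 1 1 1 0 0 0 1),
   (vec 0 1 0 1 0 0 0 1, vec 0 1 0 1 0 0 1 1),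
   (vec 0 1 0 1 0 0 0 1, vec 0 0 1 0 0 1 1 1),
   (vec 0 1 1 1 0 0 1 0, vec 0 1 1 1 0 0 0 1),
   (vec 0 1 1 1 0 0 1 0, vec 0 1 0 1 0 0 1 1),
   (vec 0 1 1 1 0 0 1 0, vec 0 0 1 0 0 1 1 1),
   (vec 0 1 1 1 0 0 0 1, vec 0 1 1 0 0 0 1 1),
   (vec 0 1 1 1 0 0 0 1, vec 0 0 0 1 0 1 1 1),
   (vec 0 1 1 0 0 0 1 1, vec 0 1 0 1 0 0 1 1),
   (vec 0 0 1 0 0 0 1 0, vec 0 0 0 1 0 0 0 1),
   (vec 0 0 1 0 0 0 1 0, vec 0 1 1 0 0 0 1 0),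
   (vec 0 0 1 0 0 0 1 0, vec 0 0 1 1 0 0 0 1),
   (vec 0 1 1 0 0 0 1 0, vec 0 0 0 1 0 0 0 1),
   (vec 0 0 1 1 0 0 1 0, vec 0 0 0 1 0 0 0 1),
   (vec 0 0 1 0 0 0 1 0, vec 0 1 1 1 0 0 1 0),
   (vec 0 0 1 0 0 0 1 0, vec 0 1 1 0 0 0 1 1),
   (vec 0 0 1 1 0 0 1 0, vec 0 0 1 1 0 0 0 1),
   (vec 0 0 1 1 0 0 1 0, vec 0 1 0 1 0 0 1 1),
   (vec 0 0 1 0 0 0 1 1, vec 0 1 0 1 0 0 1 1),
   (vec 0 1 0 0 0 1 0 0, vec 0 0 1 1 0 0 0 1),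
   (vec 0 1 0 0 0 1 0 0, vec 0 0 0 1 0 0 1 1),
   (vec 0 0 1 0 0 0 1 0, vec 0 0 0 1 0 0 1 1),
   (vec 0 1 0 1 0 1 0 0, vec 0 0 1 0 0 0 1 1),
   (vec 0 1 0 0 0 1 0 0, vec 0 1 1 1 0 1 1 1)]

theorem transPairs_ok : ∀ p ∈ transPairs, q p.1 = 1 ∧ q p.2 = 1 := by
  have h : (transPairs.all fun p => decide (q p.1 = 1 ∧ q p.2 = 1)) = true := by decide +kernel
  exact fun p hp => of_decide_eq_true (List.all_eq_true.1 h p hp)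

theorem stabPairs_ok : ∀ p ∈ stabPairs, q p.1 = 1 ∧ q p.2 = 1 ∧ pf p eV = eV := by
  have h : (stabPairs.all fun p => decide (q p.1 = 1 ∧ q p.2 = 1 ∧ pf p eV = eV)) = true := by decide +kernel
  exact fun p hp => of_decide_eq_true (List.all_eq_true.1 h p hp)

theorem singular_mem : ∀ v : V, q v = 0 → v ≠ 0 → ∃ p ∈ transPairs, pf p eV = v := by
  rw [forall_vec]; decide +kernel

theorem singular_moved : ∀ v : V, Mid v → v ≠ 0 → q v = 0 → ∃ p ∈ stabPairs, bl v (pf p v) = 1 := by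
  rw [forall_mid]; decide +kernel

theorem orbit_nonsing : ∀ v : V, Mid v → q v = 1 → ∃ p ∈ stabPairs, md (pf p cV) = v := by
  rw [forall_mid]; decide +kernel

theorem orbit_sing : ∀ v : V, Mid v → v ≠ 0 → q v = 0 → ∃ p ∈ stabPairs, md (pf p e2V) = v := by
  rw [forall_mid]; decide +kernel

theorem not_fixed : ∀ a : V, Mid a → ∀ w : Bool, a ≠ 0 → a ≠ (bif w then e2V else cV) →
    ∃ p ∈ stabPairs, md (pf p (bif w then e2V else cV)) = (bif w then e2V else cV) ∧ md (pf p a) ≠ a := by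
  rw [forall_mid]; decide +kernel

theorem line_class : ∀ u : V, Mid u → bl u e2V = 0 → q u = 0 → u = 0 ∨ u = e2V ∨
    ∃ p ∈ stabPairs, md (pf p e2V) = e2V ∧ md (pf p u) = e3V := by
  rw [forall_mid]; decide +kernel

theorem plane_class : ∀ u : V, Mid u → bl u cV = 1 → q u = 1 →
    ∃ p ∈ stabPairs, md (pf p cV) = cV ∧ md (pf p u) = uV := by
  rw [forall_mid]; decide +kernel

/-- The basis. -/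
def basisList : List V := [eV, fV, e2V, f2V, e3V, f3V, e4V, f4V]

end CfsgLib.ConwayType
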